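import Mathlib.AlgebraicGeometry.FunctionField
import Mathlib.AlgebraicGeometry.SpreadingOut
import Mathlib.AlgebraicGeometry.Morphisms.Separated
import Mathlib.AlgebraicGeometry.Morphisms.UnderlyingMap
import Mathlib.AlgebraicGeometry.Morphisms.FinitePresentation
import Mathlib.AlgebraicGeometry.Gluing

/-!
# Extending a morphism from the generic point of an integral scheme (S15982, J5)
-/

set_option autoImplicit false

universe u

open CategoryTheory CategoryTheory.Limits AlgebraicGeometry

namespace K127.GenExt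

/-- A morphism to an open subscheme `W` of an irreducible scheme `T` whose range contains the
generic point of `T` is dominant. -/
theorem isDominant_of_mem_range {T W Z : Scheme.{u}} [IrreducibleSpace T] (j : W ⟶ T)
    [IsOpenImmersion j] (a : Z ⟶ W) (h : genericPoint T ∈ Set.range (a ≫ j).base) :
    IsDominant a := by
  refine ⟨?_⟩
  obtain ⟨z, hz⟩ := h
  rw [DenseRange, dense_iff_inter_open]
  intro V hV ⟨v, hv⟩
  have h1 : IsOpen (j.base '' V) := j.isOpenEmbedding.isOpenMap V hV
  have h2 : genericPoint T ∈ j.base '' V :=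
    (genericPoint_specializes (j.base v)).mem_open h1 ⟨v, hv, rfl⟩
  obtain ⟨w, hw, hw'⟩ := h2
  refine ⟨w, hw, z, ?_⟩
  apply j.isOpenEmbedding.injective
  rw [hw']
  exact hz

theorem fromSpecStalkOfMem_eq {T : Scheme.{u}} (U : T.Opens) {x y : T} (hy : y ∈ U) (h : x ⤳ y) :
    Spec.map (T.presheaf.stalkSpecializes h) ≫ U.fromSpecStalkOfMem y hy =
      U.fromSpecStalkOfMem x (h.mem_open U.2 hy) := by
  rw [← cancel_mono U.ι, Category.assoc, Scheme.Opens.fromSpecStalkOfMem_ι,
    Scheme.Opens.fromSpecStalkOfMem_ι, Scheme.SpecMap_stalkSpecializes_fromSpecStalk]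

variable {S T P : Scheme.{u}} [IsIntegral T] (sT : T ⟶ S) (sP : P ⟶ S)

theorem algebraMap_eq (t : T) :
    CommRingCat.ofHom (algebraMap (T.presheaf.stalk t) T.functionField) =
      T.presheaf.stalkSpecializes (genericPoint_specializes t) := rfl

/-- Two morphisms from an open subscheme of `T` agreeing at the generic point are equal. -/
theorem ext_open [IsSeparated sP] {W : Scheme.{u}} (j : W ⟶ T) [IsOpenImmersion j]
    (a : Spec T.functionField ⟶ W) (ha : a ≫ j = T.fromSpecStalk (genericPoint T))
    {f g : W ⟶ P} (h : f ≫ sP = g ≫ sP) (hfg : a ≫ f = a ≫ g) : f = g := by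
  have : IsReduced W := isReduced_of_isOpenImmersion j
  have : IsDominant a := by
    apply isDominant_of_mem_range j a
    rw [ha]
    exact ⟨IsLocalRing.closedPoint _, Scheme.fromSpecStalk_closedPoint⟩
  exact ext_of_isDominant_of_isSeparated sP h a hfg

/-- `Spec` of the function field is dominant in `Spec` of a local ring. -/
theorem isDominant_algebraMap (t : T) :
    IsDominant (Spec.map (CommRingCat.ofHom (algebraMap (T.presheaf.stalk t) T.functionField))) := by
  refine ⟨?_⟩
  have hinj : Function.Injective (algebraMap (T.presheaf.stalk t) T.functionField) :=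
    IsFractionRing.injective _ _
  have hk : RingHom.ker (algebraMap (T.presheaf.stalk t) T.functionField) ≤ nilradical _ := by
    rw [(RingHom.injective_iff_ker_eq_bot _).mp hinj]
    exact bot_le
  exact (PrimeSpectrum.denseRange_comap_iff_ker_le_nilRadical _).mpr hk

/-- Two morphisms from the spectrum of a local ring of `T` agreeing at the generic point agree. -/
theorem ext_stalk [IsSeparated sP] (t : T) {f g : Spec (T.presheaf.stalk t) ⟶ P}
    (h : f ≫ sP = g ≫ sP)
    (hfg : Spec.map (CommRingCat.ofHom (algebraMap (T.presheaf.stalk t) T.functionField)) ≫ f =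
      Spec.map (CommRingCat.ofHom (algebraMap (T.presheaf.stalk t) T.functionField)) ≫ g) :
    f = g :=
  have := isDominant_algebraMap t
  ext_of_isDominant_of_isSeparated sP h _ hfg

theorem exists_extension
    [LocallyOfFiniteType sP] [IsSeparated sP]
    (c : Spec T.functionField ⟶ P)
    (h : ∀ t : T, ∃ φ : Spec (T.presheaf.stalk t) ⟶ P, φ ≫ sP = T.fromSpecStalk t ≫ sT ∧
      Spec.map (CommRingCat.ofHom (algebraMap (T.presheaf.stalk t) T.functionField)) ≫ φ = c) :
    ∃ c' : T ⟶ P, c' ≫ sP = sT ∧ T.fromSpecStalk (genericPoint T) ≫ c' = c ∧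
      ∀ (t : T) (φ : Spec (T.presheaf.stalk t) ⟶ P), φ ≫ sP = T.fromSpecStalk t ≫ sT →
      Spec.map (CommRingCat.ofHom (algebraMap (T.presheaf.stalk t) T.functionField)) ≫ φ = c →
      T.fromSpecStalk t ≫ c' = φ := by
  choose φ hφ1 hφ2 using h
  choose U hU f hf1 hf2 using fun t => spread_out_of_isGermInjective' sT sP (φ t) (hφ1 t)
  have hηU : ∀ t, genericPoint T ∈ U t := fun t =>
    (genericPoint_specializes t).mem_open (U t).2 (hU t)
  have hgen : ∀ t, (U t).fromSpecStalkOfMem (genericPoint T) (hηU t) ≫ f t = c := by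
    intro t
    rw [← fromSpecStalkOfMem_eq (U t) (hU t) (genericPoint_specializes t), Category.assoc,
      ← hf1 t, ← algebraMap_eq]
    exact hφ2 t
  have hcov : TopologicalSpace.IsOpenCover U := by
    rw [TopologicalSpace.IsOpenCover, eq_top_iff]
    intro t _
    exact TopologicalSpace.Opens.mem_iSup.mpr ⟨t, hU t⟩
  have hcompat : ∀ x y : T, pullback.fst (U x).ι (U y).ι ≫ f x =
      pullback.snd (U x).ι (U y).ι ≫ f y := by
    intro x y
    let a : Spec T.functionField ⟶ pullback (U x).ι (U y).ι :=
      pullback.lift ((U x).fromSpecStalkOfMem (genericPoint T) (hηU x))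
        ((U y).fromSpecStalkOfMem (genericPoint T) (hηU y)) (by
          exact ((U x).fromSpecStalkOfMem_ι _ _).trans ((U y).fromSpecStalkOfMem_ι _ _).symm)
    refine ext_open sP (pullback.fst (U x).ι (U y).ι ≫ (U x).ι) a ?_ ?_ ?_
    · rw [pullback.lift_fst_assoc]
      exact (U x).fromSpecStalkOfMem_ι _ _
    · rw [Category.assoc, Category.assoc, hf2 x, hf2 y]
      exact pullback.condition_assoc (f := (U x).ι) (g := (U y).ι) sT
    · rw [pullback.lift_fst_assoc, pullback.lift_snd_assoc, hgen x, hgen y]
  let c' : T ⟶ P := (T.openCoverOfIsOpenCover U hcov).glueMorphisms f hcompat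
  have hc' : ∀ t, (U t).ι ≫ c' = f t := fun t =>
    (T.openCoverOfIsOpenCover U hcov).ι_glueMorphisms f hcompat t
  have hcS : c' ≫ sP = sT := by
    apply (T.openCoverOfIsOpenCover U hcov).hom_ext
    intro t
    change (U t).ι ≫ c' ≫ sP = (U t).ι ≫ sT
    rw [← Category.assoc, hc' t]
    exact hf2 t
  have hcst : ∀ t, T.fromSpecStalk t ≫ c' = φ t := by
    intro t
    rw [← (U t).fromSpecStalkOfMem_ι t (hU t), Category.assoc, hc' t, ← hf1 t]
  refine ⟨c', hcS, ?_, ?_⟩
  · rw [← (U (genericPoint T)).fromSpecStalkOfMem_ι (genericPoint T) (hU _), Category.assoc, hc' _]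
    exact hgen _
  · intro t ψ hψ1 hψ2
    rw [hcst t]
    exact ext_stalk sP t ((hφ1 t).trans hψ1.symm) ((hφ2 t).trans hψ2.symm)

end K127.GenExt
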