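import Mathlib.AlgebraicGeometry.AlgClosed.Basic
import Mathlib.AlgebraicGeometry.Morphisms.Finite
import Mathlib.AlgebraicGeometry.PullbackCarrier
import Mathlib.Topology.JacobsonSpace

/-!
# The closure of the closed points of a graph (S15982, J4)
-/

set_option autoImplicit false

universe u

open CategoryTheory CategoryTheory.Limits AlgebraicGeometry

namespace K127.GraphCl

variable {k : Type u} [Field k] [IsAlgClosed k]

/-- Over a closed point of `X` (a scheme locally of finite type over an algebraically closed
field) a point of `X ×_k T` is determined by its projection to `T`. -/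
theorem eq_of_snd_eq {X T : Scheme.{u}} (sX : X ⟶ Spec (CommRingCat.of k))
    (sT : T ⟶ Spec (CommRingCat.of k)) [LocallyOfFiniteType sX]
    {z z' : ↥(pullback sX sT)} (hx : IsClosed ({(pullback.fst sX sT).base z} : Set X))
    (h1 : (pullback.fst sX sT).base z = (pullback.fst sX sT).base z')
    (h2 : (pullback.snd sX sT).base z = (pullback.snd sX sT).base z') : z = z' := by
  obtain ⟨⟨p, hp⟩, hpx⟩ := (pointEquivClosedPoint (f := sX)).surjective ⟨_, hx⟩
  have hpx' : p.base (IsLocalRing.closedPoint k) = (pullback.fst sX sT).base z :=
    congrArg Subtype.val hpx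
  let s : T ⟶ pullback sX sT := pullback.lift (sT ≫ p) (𝟙 T) (by
    rw [Category.assoc, hp, Category.comp_id, Category.id_comp])
  have key : ∀ y : ↥(pullback sX sT), (pullback.fst sX sT).base y = (pullback.fst sX sT).base z →
      y = s.base ((pullback.snd sX sT).base y) := by
    intro y hy
    obtain ⟨w, hw1, hw2⟩ := Scheme.Pullback.exists_preimage_pullback (f := pullback.fst sX sT)
      (g := p) y (IsLocalRing.closedPoint k) (hy.trans hpx'.symm)
    have hq : pullback.fst (pullback.fst sX sT) p =
        pullback.fst (pullback.fst sX sT) p ≫ pullback.snd sX sT ≫ s := by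
      apply pullback.hom_ext
      · have e : pullback.fst (pullback.fst sX sT) p ≫ pullback.snd sX sT ≫ sT ≫ p =
            pullback.fst (pullback.fst sX sT) p ≫ pullback.fst sX sT := by
          rw [← pullback.condition_assoc (f := sX) (g := sT),
            pullback.condition_assoc (f := pullback.fst sX sT) (g := p),
            reassoc_of% hp, ← pullback.condition]
        rw [Category.assoc, Category.assoc, pullback.lift_fst, e]
      · rw [Category.assoc, Category.assoc, pullback.lift_snd, Category.comp_id]
    have h3 := congrArg (fun φ : pullback (pullback.fst sX sT) p ⟶ pullback sX sT => φ.base w) hq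
    calc y = (pullback.fst (pullback.fst sX sT) p).base w := hw1.symm
      _ = (pullback.fst (pullback.fst sX sT) p ≫ pullback.snd sX sT ≫ s).base w := h3
      _ = s.base ((pullback.snd sX sT).base ((pullback.fst (pullback.fst sX sT) p).base w)) := rfl
      _ = _ := by
        have : (pullback.fst (pullback.fst sX sT) p).base w = y := hw1
        rw [this]
  rw [key z rfl, key z' h1.symm, h2]

theorem closure_graph {X T W : Scheme.{u}}
    (sX : X ⟶ Spec (CommRingCat.of k)) (sT : T ⟶ Spec (CommRingCat.of k)) [LocallyOfFiniteType sX]
    [LocallyOfFiniteType sT] [IsIntegral W] (j : W ⟶ X) [IsOpenImmersion j] (h : W ⟶ T)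
    (hh : j ≫ sX = h ≫ sT) :
    closure {z : ↥(pullback sX sT) | ∃ w : W, IsClosed ({j.base w} : Set X) ∧
      (pullback.fst sX sT).base z = j.base w ∧ (pullback.snd sX sT).base z = h.base w} =
    closure {(pullback.lift j h hh).base (genericPoint W)} := by
  have : JacobsonSpace X := LocallyOfFiniteType.jacobsonSpace sX
  have : JacobsonSpace W := JacobsonSpace.of_isOpenEmbedding j.isOpenEmbedding
  set Γ := pullback.lift j h hh with hΓ
  have hΓ1 : ∀ w : W, (pullback.fst sX sT).base (Γ.base w) = j.base w := fun w =>
    congrArg (fun φ : W ⟶ X => φ.base w) (pullback.lift_fst j h hh)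
  have hΓ2 : ∀ w : W, (pullback.snd sX sT).base (Γ.base w) = h.base w := fun w =>
    congrArg (fun φ : W ⟶ T => φ.base w) (pullback.lift_snd j h hh)
  have hset : {z : ↥(pullback sX sT) | ∃ w : W, IsClosed ({j.base w} : Set X) ∧
      (pullback.fst sX sT).base z = j.base w ∧ (pullback.snd sX sT).base z = h.base w} =
      Γ.base '' (closedPoints W) := by
    ext z
    constructor
    · rintro ⟨w, hw, h1, h2⟩
      refine ⟨w, ?_, ?_⟩
      · rw [← j.isOpenEmbedding.preimage_closedPoints]
        exact hw
      · refine (eq_of_snd_eq sX sT ?_ ?_ ?_).symm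
        · rw [h1]; exact hw
        · rw [h1, hΓ1]
        · rw [h2, hΓ2]
    · rintro ⟨w, hw, rfl⟩
      rw [← j.isOpenEmbedding.preimage_closedPoints] at hw
      exact ⟨w, hw, hΓ1 w, hΓ2 w⟩
  rw [hset]
  apply le_antisymm
  · refine closure_minimal ?_ isClosed_closure
    rintro _ ⟨w, -, rfl⟩
    have : (genericPoint W) ⤳ w := genericPoint_specializes w
    exact (this.map Γ.continuous).mem_closure
  · refine closure_minimal ?_ isClosed_closure
    rintro _ rfl
    have h1 : Γ.base '' (closure (closedPoints W)) ⊆ closure (Γ.base '' closedPoints W) :=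
      image_closure_subset_closure_image Γ.continuous
    rw [closure_closedPoints] at h1
    exact h1 ⟨_, trivial, rfl⟩

end K127.GraphCl
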