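import Groth.Prelude.Def_Pi1
import Groth.Agent.Pi1.H6.ExtIff

/-!
# Extending a morphism to a finite scheme from a dense open of a normal scheme (S15982, J3)
-/

set_option autoImplicit false

universe u

open CategoryTheory CategoryTheory.Limits AlgebraicGeometry

namespace K127.Nu

/-- `T'` normal integral locally Noetherian, `p : T ⟶ P` integral, `c' : T' ⟶ P` and
`g : V ⟶ T` over `P` on a nonempty open `V` of `T'`: then `g` extends to `T'`. -/
theorem exists_nu_integral {P T T' : Scheme.{u}} (p : T ⟶ P) [IsIntegralHom p] (c' : T' ⟶ P)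
    [IsIntegral T'] [IsLocallyNoetherian T']
    (hn : Pi1.IsNormalScheme T') (V : Scheme.{u}) [Nonempty V] (j : V ⟶ T') [IsOpenImmersion j]
    (g : V ⟶ T) (h : j ≫ c' = g ≫ p) : ∃ ν : T' ⟶ T, ν ≫ p = c' ∧ j ≫ ν = g := by
  have hiso : IsIso j.fromNormalization :=
    Groth.Agent.Pi1.H6.ExtIff.isIso_fromNormalization_of_normal hn j
  let f₁ : V ⟶ pullback p c' := pullback.lift g j h.symm
  let f₂ : pullback p c' ⟶ T' := pullback.snd p c'
  have H : j = f₁ ≫ f₂ := (pullback.lift_snd _ _ _).symm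
  refine ⟨inv j.fromNormalization ≫ j.normalizationDesc f₁ f₂ H ≫ pullback.fst p c', ?_, ?_⟩
  · have h1 : j.normalizationDesc f₁ f₂ H ≫ pullback.fst p c' ≫ p = j.fromNormalization ≫ c' := by
      rw [pullback.condition, ← Category.assoc, j.normalizationDesc_comp f₁ f₂ H]
    rw [Category.assoc, Category.assoc, h1, IsIso.inv_hom_id_assoc]
  · have h2 : j ≫ inv j.fromNormalization = j.toNormalization := by
      rw [IsIso.comp_inv_eq, j.toNormalization_fromNormalization]
    rw [← Category.assoc, h2, ← Category.assoc, j.toNormalization_normalizationDesc f₁ f₂ H]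
    exact pullback.lift_fst _ _ _

theorem exists_nu {P T T' : Scheme.{u}} (p : T ⟶ P) [IsFinite p] (c' : T' ⟶ P) [IsIntegral T']
    [IsLocallyNoetherian T']
    (hn : Pi1.IsNormalScheme T') (V : Scheme.{u}) [Nonempty V] (j : V ⟶ T') [IsOpenImmersion j]
    (g : V ⟶ T) (h : j ≫ c' = g ≫ p) : ∃ ν : T' ⟶ T, ν ≫ p = c' ∧ j ≫ ν = g :=
  exists_nu_integral p c' hn V j g h

end K127.Nu
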